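import Groth.Agent.Lib.RegSmooth17.Basic
import Groth.Agent.Lib.RegLoc.Basic
import Mathlib.RingTheory.Smooth.Fiber
import Mathlib.RingTheory.TensorProduct.Quotient
import Mathlib.RingTheory.LocalRing.ResidueField.Ideal
import Mathlib.RingTheory.Flat.Localization

/-!
# A flat algebra over a ring with principal local ring is smooth at regular points on sections
-/

set_option autoImplicit false
set_option linter.style.haveILetI false
set_option backward.isDefEq.respectTransparency false
universe u

open IsLocalRing TensorProduct

namespace Groth.Agent.SectSmooth22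

/-- A regular local algebra with rational residue field, essentially of finite type over a field, is
formally smooth. -/
theorem formallySmooth_of_regular {k T : Type u} [Field k] [CommRing T] [IsRegularLocalRing T]
    [Algebra k T] (hk : Function.Surjective (algebraMap k (ResidueField T)))
    (n : ℕ) (g : MvPolynomial (Fin n) k →ₐ[k] T)
    (hg : ∀ t : T, ∃ a c, IsUnit (g c) ∧ t * g c = g a) : Algebra.FormallySmooth k T := by
  let A := MvPolynomial (Fin n) k
  haveI : IsRegularRing A := inferInstance
  let Q : Ideal A := (maximalIdeal T).comap g.toRingHom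
  let P := Localization.AtPrime Q
  haveI : IsRegularLocalRing P := IsRegularRing.isRegularLocalRing_localization Q
  haveI : Algebra.FormallyEtale A P := Algebra.FormallyEtale.of_isLocalization Q.primeCompl
  haveI : Algebra.FormallySmooth k P := .comp k A P
  haveI : Module.Free P Ω[P⁄k] :=
    Module.Free.of_equiv (KaehlerDifferential.tensorKaehlerEquivOfFormallyEtale k A P)
  haveI : Module.Finite P Ω[P⁄k] :=
    Module.Finite.equiv (KaehlerDifferential.tensorKaehlerEquivOfFormallyEtale k A P)
  have hunit : ∀ y : Q.primeCompl, IsUnit (g y.1) := fun y => by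
    have := y.2
    by_contra h
    exact this ((mem_maximalIdeal _).2 h)
  let ψ : P →ₐ[k] T := IsLocalization.liftAlgHom (M := Q.primeCompl) (f := g) hunit
  have hψg : ∀ a, ψ (algebraMap A P a) = g a := fun a => IsLocalization.lift_eq hunit a
  have hψ : Function.Surjective ψ := by
    intro t
    obtain ⟨a, c, hc, hac⟩ := hg t
    have hcQ : c ∈ Q.primeCompl := fun h => (mem_maximalIdeal _).1 h hc
    refine ⟨IsLocalization.mk' P a ⟨c, hcQ⟩, hc.mul_left_injective ?_⟩
    show ψ _ * g c = t * g c
    rw [← hψg c, ← map_mul, IsLocalization.mk'_spec, hψg, hψg, hac]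
  let I := RingHom.ker ψ
  let e : (P ⧸ I) ≃ₐ[k] T := Ideal.quotientKerAlgEquivOfSurjective hψ
  haveI : IsRegularLocalRing (P ⧸ I) := IsRegularLocalRing.of_ringEquiv e.toRingEquiv.symm
  haveI : IsLocalHom ψ.toRingHom := IsLocalHom.of_surjective _ hψ
  haveI : Algebra.FormallySmooth k (ResidueField P) := by
    have h1 : Function.Surjective (algebraMap k (ResidueField P)) := fun z => by
      obtain ⟨c, hc⟩ := hk (ResidueField.map ψ.toRingHom z)
      refine ⟨c, (ResidueField.map ψ.toRingHom).injective ?_⟩
      rw [← hc]
      change ResidueField.map ψ.toRingHom (residue P (algebraMap k P c)) = residue T (algebraMap k T c)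
      rw [ResidueField.map_residue]
      exact congrArg _ (ψ.commutes c)
    exact .of_equiv (AlgEquiv.ofBijective (Algebra.ofId k (ResidueField P))
      ⟨(algebraMap k (ResidueField P)).injective, h1⟩)
  haveI := RegSmooth17.formallySmooth_quotient (k := k) I
  exact Algebra.FormallySmooth.of_equiv (A := P ⧸ I) e

/-- A flat algebra of finite presentation is smooth at a regular point over a point with principal
maximal ideal, as soon as the local map has a retraction. -/
theorem isSmoothAt_of_retraction {R B : Type u} [CommRing R] [CommRing B] [Algebra R B]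
    [Algebra.FinitePresentation R B] [Module.Flat R B] (p : Ideal R) (q : Ideal B)
    [p.IsPrime] [q.IsPrime] [q.LiesOver p] [IsNoetherianRing (Localization.AtPrime p)]
    [IsDomain (Localization.AtPrime p)]
    (hp : Submodule.IsPrincipal (maximalIdeal (Localization.AtPrime p)))
    [IsRegularLocalRing (Localization.AtPrime q)]
    (σ : Localization.AtPrime q →+* Localization.AtPrime p)
    (hσ : σ.comp (Localization.localRingHom p q (algebraMap R B) (Ideal.over_def q p)) =
      RingHom.id _) : Algebra.IsSmoothAt R q := by
  let A := Localization.AtPrime p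
  let Sp := Localization (Algebra.algebraMapSubmonoid B p.primeCompl)
  let S := Localization.AtPrime q
  let := Localization.AtPrime.algebraOfLiesOver p q
  let f : Sp →ₐ[B] S := IsLocalization.liftAlgHom (M := Algebra.algebraMapSubmonoid B p.primeCompl)
        (f := Algebra.ofId _ _) (by
      rintro ⟨_, x, hx, rfl⟩
      simpa using! IsLocalization.map_units (M := q.primeCompl) S ⟨algebraMap _ _ x,
        by simp_all [q.over_def p]⟩)
  algebraize [f.toRingHom]
  have : IsScalarTower R Sp S := .to₁₃₄ _ B _ _
  have : IsScalarTower A Sp S := .of_algebraMap_eq' <| by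
    apply IsLocalization.ringHom_ext p.primeCompl
    simp only [RingHom.comp_assoc, ← IsScalarTower.algebraMap_eq]
  have : IsLocalization (Algebra.algebraMapSubmonoid Sp q.primeCompl) S :=
    .isLocalization_of_submonoid_le _ _ (Algebra.algebraMapSubmonoid B p.primeCompl) _
    (by rintro _ ⟨x, hx, rfl⟩; simp_all [q.over_def p])
  have : Algebra.FinitePresentation A Sp := by
    have : Algebra.IsPushout R A B Sp :=
      .symm <| Algebra.isPushout_of_isLocalization p.primeCompl _ _ _
    exact .equiv (Algebra.IsPushout.equiv R A B Sp)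
  haveI : Module.Flat R S := Module.Flat.trans R B S
  haveI : Module.Flat A S := (Module.flat_iff_of_isLocalization A p.primeCompl S).2 ‹_›
  have hlr : algebraMap A S = Localization.localRingHom p q (algebraMap R B) (Ideal.over_def q p) := rfl
  have hσ' : ∀ a, σ (algebraMap A S a) = a := fun a => by
    rw [hlr]; exact DFunLike.congr_fun hσ a
  have hσs : Function.Surjective σ := fun a => ⟨_, hσ' a⟩
  haveI : IsLocalHom σ := IsLocalHom.of_surjective _ hσs
  haveI : IsLocalHom (algebraMap A S) := by rw [hlr]; infer_instance
  -- the fibre ring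
  let J : Ideal S := (maximalIdeal A).map (algebraMap A S)
  let T := ResidueField A ⊗[A] S
  let π : S →ₐ[A] T := Algebra.TensorProduct.includeRight
  have hπ : Function.Surjective π := fun z => by
    obtain ⟨s, hs⟩ := TensorProduct.mk_surjective A S (ResidueField A) residue_surjective z
    exact ⟨s, hs⟩
  let e : (S ⧸ J) ≃+* T :=
    ((Algebra.TensorProduct.quotIdealMapEquivTensorQuot S (maximalIdeal A)).toRingEquiv).trans
      (Algebra.TensorProduct.comm A S (ResidueField A)).toRingEquiv
  haveI : IsRegularLocalRing (S ⧸ J) := by
    obtain ⟨ϖ, hϖ⟩ := hp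
    have hϖm : ϖ ∈ maximalIdeal A := by rw [hϖ]; exact Submodule.mem_span_singleton_self ϖ
    have hJ : J = Ideal.span {algebraMap A S ϖ} := by
      simp only [J]
      rw [hϖ, Ideal.submodule_span_eq, Ideal.map_span, Set.image_singleton]
    by_cases h0 : ϖ = 0
    · refine IsRegularLocalRing.of_ringEquiv (R := S) ((RingEquiv.quotientBot S).symm.trans
        (Ideal.quotEquivOfEq ?_))
      rw [hJ, h0, map_zero, Ideal.span_singleton_zero]
    · suffices hx2 : algebraMap A S ϖ ∉ maximalIdeal S ^ 2 by
        obtain ⟨h, -⟩ := RegLoc.quotient_span_singleton (map_nonunit (algebraMap A S) _ hϖm) hx2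
        exact IsRegularLocalRing.of_ringEquiv (Ideal.quotEquivOfEq hJ.symm)
      intro hmem
      apply h0
      have h2 : ϖ ∈ maximalIdeal A ^ 2 := by
        have hle : (maximalIdeal S).map σ ≤ maximalIdeal A :=
          Ideal.map_le_iff_le_comap.2 fun x hx => map_nonunit σ x hx
        have := Ideal.mem_map_of_mem σ hmem
        rw [Ideal.map_pow, hσ'] at this
        exact Ideal.pow_right_mono hle 2 this
      rw [hϖ, Ideal.submodule_span_eq, Ideal.span_singleton_pow, Ideal.mem_span_singleton] at h2
      obtain ⟨a, ha⟩ := h2
      by_contra hne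
      have h1 : ϖ * a = 1 := mul_left_cancel₀ hne (by rw [mul_one, ← mul_assoc, ← sq]; exact ha.symm)
      exact (mem_maximalIdeal ϖ).1 hϖm (IsUnit.of_mul_eq_one a h1)
  haveI : IsRegularLocalRing T := IsRegularLocalRing.of_ringEquiv e
  haveI : IsLocalHom π.toRingHom := IsLocalHom.of_surjective _ hπ
  have hk : Function.Surjective (algebraMap (ResidueField A) (ResidueField T)) := by
    intro z
    obtain ⟨z, rfl⟩ := residue_surjective z
    obtain ⟨s, rfl⟩ := hπ z
    refine ⟨residue A (σ s), ?_⟩
    change residue T (algebraMap (ResidueField A) T (residue A (σ s))) = _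
    have h1 : algebraMap (ResidueField A) T (residue A (σ s)) = π (algebraMap A S (σ s)) :=
      (π.commutes (σ s)).symm
    rw [h1, ← sub_eq_zero, ← map_sub, ← map_sub, residue_eq_zero_iff]
    refine map_nonunit π.toRingHom _ ((mem_maximalIdeal _).2 fun hu => ?_)
    have := hu.map σ
    rw [map_sub, hσ', sub_self] at this
    exact not_isUnit_zero this
  haveI : Algebra.FormallySmooth (ResidueField A) T := by
    obtain ⟨n, g₀, hg₀⟩ := Algebra.FiniteType.iff_quotient_mvPolynomial''.1
      (inferInstance : Algebra.FiniteType A Sp)
    let h : Sp →ₐ[A] T := π.comp (IsScalarTower.toAlgHom A Sp S)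
    let g : MvPolynomial (Fin n) (ResidueField A) →ₐ[ResidueField A] T :=
      MvPolynomial.aeval fun i => h (g₀ (MvPolynomial.X i))
    have hg : ∀ b : Sp, ∃ a, g a = h b := fun b => by
      obtain ⟨a, rfl⟩ := hg₀ b
      refine ⟨MvPolynomial.map (residue A) a, ?_⟩
      change (MvPolynomial.aeval fun i => h (g₀ (MvPolynomial.X i))) (MvPolynomial.map (residue A) a) = _
      rw [show residue A = algebraMap A (ResidueField A) from rfl, MvPolynomial.aeval_map_algebraMap]
      exact DFunLike.congr_fun (MvPolynomial.aeval_unique (h.comp g₀)).symm a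
    refine formallySmooth_of_regular hk n g fun t => ?_
    obtain ⟨s, rfl⟩ := hπ t
    obtain ⟨b, c, rfl⟩ := IsLocalization.exists_mk'_eq (Algebra.algebraMapSubmonoid Sp q.primeCompl) s
    obtain ⟨a, ha⟩ := hg b
    obtain ⟨c', hc'⟩ := hg c
    refine ⟨a, c', ?_, ?_⟩
    · rw [hc']
      exact (IsLocalization.map_units S c).map π
    · rw [hc', ha]
      change π _ * π (algebraMap Sp S c) = π (algebraMap Sp S b)
      rw [← map_mul, IsLocalization.mk'_spec]
  have : Algebra.FormallySmooth A S := Algebra.FormallySmooth.of_formallySmooth_residueField_tensor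
    (R := A) (S := S) (P := Sp) (Algebra.algebraMapSubmonoid Sp q.primeCompl)
  exact .comp R A S

end Groth.Agent.SectSmooth22
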