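import Groth.Agent.Lib.SectSmooth22.Local
import Groth.Agent.Lib.RegSmooth17.Scheme
import Mathlib.RingTheory.DedekindDomain.Dvr
import Mathlib.RingTheory.DedekindDomain.Basic

/-!
# Sections of a regular flat scheme over a Dedekind scheme pass through the smooth locus
-/

set_option autoImplicit false
set_option linter.style.haveILetI false
set_option backward.isDefEq.respectTransparency false
universe u

open CategoryTheory AlgebraicGeometry IsLocalRing

namespace Groth.Agent.SectSmooth22

/-- The canonical map to a local ring of an affine scheme is formally unramified. -/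
theorem formallyUnramified_germ {R : CommRingCat.{u}} (y : Spec R) :
    (((Spec R).presheaf.germ ⊤ y trivial).hom.comp (Scheme.ΓSpecIso R).inv.hom).FormallyUnramified := by
  have hU := isAffineOpen_top (Spec R)
  letI := (Spec R).presheaf.algebra_section_stalk (U := ⊤) ⟨y, trivial⟩
  haveI := hU.isLocalization_stalk ⟨y, trivial⟩
  refine RingHom.FormallyUnramified.comp
    (RingHom.FormallyUnramified.of_surjective
      (ConcreteCategory.bijective_of_isIso (Scheme.ΓSpecIso R).inv).2) ?_
  change (algebraMap Γ(Spec R, ⊤) ((Spec R).presheaf.stalk y)).FormallyUnramified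
  rw [RingHom.formallyUnramified_algebraMap]
  exact Algebra.FormallyUnramified.of_isLocalization (hU.primeIdealOf ⟨y, trivial⟩).asIdeal.primeCompl

set_option maxHeartbeats 1000000 in
theorem mem_smoothLocus_section {R : Type u} [CommRing R] [IsDedekindDomain R] {X : Scheme.{u}}
    (p : X ⟶ Spec (CommRingCat.of R)) [Flat p] [LocallyOfFinitePresentation p]
    (s : Spec (CommRingCat.of R) ⟶ X) (hs : s ≫ p = 𝟙 _) (t : Spec (CommRingCat.of R))
    [IsRegularLocalRing (X.presheaf.stalk (s t))] : s t ∈ p.smoothLocus := by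
  set x := s t
  obtain ⟨V, hV, hxV, -⟩ := exists_isAffineOpen_mem_and_subset (show x ∈ (⊤ : X.Opens) from trivial)
  have hU := isAffineOpen_top (Spec (CommRingCat.of R))
  let φ : R →+* Γ(X, V) := ((Scheme.ΓSpecIso (CommRingCat.of R)).inv ≫ p.appLE ⊤ V le_top).hom
  have hφfp : φ.FinitePresentation := RingHom.FinitePresentation.comp
    (p.finitePresentation_appLE hU hV le_top)
    (RingHom.FinitePresentation.of_bijective
      (ConcreteCategory.bijective_of_isIso (Scheme.ΓSpecIso (CommRingCat.of R)).inv))
  have hφfl : φ.Flat := RingHom.Flat.comp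
    (RingHom.Flat.of_bijective (ConcreteCategory.bijective_of_isIso (Scheme.ΓSpecIso (CommRingCat.of R)).inv))
    (Flat.flat_appLE p hU hV le_top)
  letI := φ.toAlgebra
  haveI : Algebra.FinitePresentation R Γ(X, V) := hφfp
  haveI : Module.Flat R Γ(X, V) := hφfl
  letI := X.presheaf.algebra_section_stalk (U := V) ⟨x, hxV⟩
  haveI := hV.isLocalization_stalk ⟨x, hxV⟩
  let q := (hV.primeIdealOf ⟨x, hxV⟩).asIdeal
  let e₀ : Localization.AtPrime q ≃ₐ[Γ(X, V)] X.presheaf.stalk x :=
    IsLocalization.algEquiv q.primeCompl (Localization.AtPrime q) (X.presheaf.stalk x)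
  haveI : IsRegularLocalRing (Localization.AtPrime q) := IsRegularLocalRing.of_ringEquiv e₀.symm.toRingEquiv
  let P := t.asIdeal
  let et := Spec.stalkIso (CommRingCat.of R) t
  let σ₀ : X.presheaf.stalk x ⟶ CommRingCat.of (Localization.AtPrime P) := s.stalkMap t ≫ et.hom
  haveI : IsLocalHom σ₀.hom := ⟨fun a ha => IsLocalHom.map_nonunit (f := (s.stalkMap t).hom) a
    ((isUnit_map_iff et.commRingCatIsoToRingEquiv _).1 ha)⟩
  -- the map from the base to the local ring
  have key : (Scheme.ΓSpecIso (CommRingCat.of R)).inv ≫ p.appLE ⊤ V le_top ≫ X.presheaf.germ V x hxV ≫ σ₀ =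
      CommRingCat.ofHom (algebraMap R (Localization.AtPrime P)) := by
    have h1 : p.appLE ⊤ V le_top ≫ X.presheaf.germ V x hxV = p.appTop ≫ X.presheaf.germ ⊤ x trivial := by
      delta Scheme.Hom.appLE
      rw [Category.assoc, TopCat.Presheaf.germ_res]
      rfl
    have h2 : p.appTop ≫ X.presheaf.germ ⊤ x trivial ≫ s.stalkMap t =
        (Spec (CommRingCat.of R)).presheaf.germ ⊤ t trivial := by
      rw [Scheme.Hom.germ_stalkMap s ⊤ t trivial]
      change p.appTop ≫ s.appTop ≫ _ = _
      rw [← Category.assoc, ← Scheme.Hom.comp_appTop, hs, Scheme.Hom.id_appTop]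
      exact Category.id_comp _
    rw [reassoc_of% h1, reassoc_of% h2, ← Spec.algebraMap_stalkIso_inv_assoc]
    simp [et, P]
  have hσR : ∀ r : R, σ₀ (algebraMap Γ(X, V) (X.presheaf.stalk x) (φ r)) =
      algebraMap R (Localization.AtPrime P) r := fun r => by
    have := ConcreteCategory.congr_hom key r
    simp only [CommRingCat.comp_apply] at this
    exact this
  haveI : q.LiesOver P := ⟨by
    ext r
    have h1 : φ r ∈ q ↔ ¬ IsUnit (algebraMap Γ(X, V) (X.presheaf.stalk x) (φ r)) := by
      rw [← mem_nonunits_iff, ← mem_maximalIdeal, IsLocalization.AtPrime.to_map_mem_maximal_iff _ q]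
    have h2 : r ∈ P ↔ ¬ IsUnit (algebraMap R (Localization.AtPrime P) r) := by
      rw [← mem_nonunits_iff, ← mem_maximalIdeal, IsLocalization.AtPrime.to_map_mem_maximal_iff _ P]
    change r ∈ P ↔ φ r ∈ q
    rw [h1, h2, ← hσR, isUnit_map_iff σ₀.hom]⟩
  let σ : Localization.AtPrime q →+* Localization.AtPrime P := σ₀.hom.comp e₀.toRingEquiv.toRingHom
  have hσ : σ.comp (Localization.localRingHom P q (algebraMap R Γ(X, V)) (Ideal.over_def q P)) =
      RingHom.id _ := by
    refine IsLocalization.ringHom_ext P.primeCompl (RingHom.ext fun r => ?_)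
    rw [RingHom.comp_apply, RingHom.comp_apply, Localization.localRingHom_to_map]
    change σ₀ (e₀ (algebraMap Γ(X, V) _ (φ r))) = _
    rw [AlgEquiv.commutes]
    exact hσR r
  haveI : IsPrincipalIdealRing (Localization.AtPrime P) := by
    by_cases hP : P = ⊥
    · haveI : IsFractionRing R (Localization.AtPrime P) := by
        refine IsLocalization.of_le_of_exists_dvd P.primeCompl (nonZeroDivisors R) ?_ ?_
        · intro r hr
          exact mem_nonZeroDivisors_of_ne_zero fun h0 => hr (h0 ▸ P.zero_mem)
        · intro r hr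
          exact ⟨r, fun hrP => nonZeroDivisors.ne_zero hr (by simpa [hP] using hrP), dvd_rfl⟩
      letI := (IsFractionRing.toField R : Field (Localization.AtPrime P))
      infer_instance
    · haveI := IsLocalization.AtPrime.isDiscreteValuationRing_of_dedekind_domain R hP (Localization.AtPrime P)
      infer_instance
  have hsm : Algebra.IsSmoothAt R q := isSmoothAt_of_retraction P q (IsPrincipalIdealRing.principal _) σ hσ
  haveI : IsScalarTower R Γ(X, V) (Localization.AtPrime q) := inferInstance
  rw [Scheme.Hom.mem_smoothLocus]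
  have hu := formallyUnramified_germ (R := CommRingCat.of R) (p x)
  have h : ((p.stalkMap x).hom.comp (((Spec (CommRingCat.of R)).presheaf.germ ⊤ (p x) trivial).hom.comp
      (Scheme.ΓSpecIso (CommRingCat.of R)).inv.hom)).FormallySmooth := by
    have heq : (p.stalkMap x).hom.comp (((Spec (CommRingCat.of R)).presheaf.germ ⊤ (p x) trivial).hom.comp
        (Scheme.ΓSpecIso (CommRingCat.of R)).inv.hom) = (X.presheaf.germ V x hxV).hom.comp φ := by
      rw [← CommRingCat.hom_comp, ← CommRingCat.hom_comp, ← CommRingCat.hom_comp]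
      congr 1
      rw [Category.assoc, Category.assoc]
      congr 1
      delta Scheme.Hom.appLE
      rw [Category.assoc, TopCat.Presheaf.germ_res]
      exact Scheme.Hom.germ_stalkMap p ⊤ x trivial
    rw [heq]
    letI := ((X.presheaf.germ V x hxV).hom.comp φ).toAlgebra
    haveI : IsScalarTower R Γ(X, V) (X.presheaf.stalk x) := IsScalarTower.of_algebraMap_eq' rfl
    haveI : Algebra.FormallySmooth R (Localization.AtPrime q) := hsm
    exact (RingHom.formallySmooth_algebraMap (R := R) (S := X.presheaf.stalk x)).2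
      (Algebra.FormallySmooth.of_equiv (A := Localization.AtPrime q) (e₀.restrictScalars R))
  algebraize [((Spec (CommRingCat.of R)).presheaf.germ ⊤ (p x) trivial).hom.comp
    (Scheme.ΓSpecIso (CommRingCat.of R)).inv.hom, (p.stalkMap x).hom,
    (p.stalkMap x).hom.comp (((Spec (CommRingCat.of R)).presheaf.germ ⊤ (p x) trivial).hom.comp
      (Scheme.ΓSpecIso (CommRingCat.of R)).inv.hom)]
  exact Algebra.FormallySmooth.of_restrictScalars R _ _

end Groth.Agent.SectSmooth22
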